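import Groth.Agent.Lib.ExtOne28.Basic
import Groth.Agent.Lib.ExtOne28.Involution
import Groth.Agent.Lib.SurfRef9.Basic
import Groth.Agent.Lib.K0Sub.LocFree
import Groth.Agent.Lib.MLSupp9.Basic
import Groth.Agent.Lib.LefAmp7.Hom
import Groth.Agent.Lib.VA.Powers
import Groth.Agent.Lib.HodgeIndex.Curves
import Groth.Agent.Lib.SerrePn27.Asymp
import Groth.Agent.Lib.CMReg.SupportOne
import Groth.Agent.Lib.CurveMult.GGCurve
import Groth.Agent.Lib.Euler.Support
import Groth.Agent.Lib.NegTwist.H0

/-!
# The dual `Ext¹(-, ω)` on modules of dimension one on a surface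
-/

set_option autoImplicit false
set_option maxHeartbeats 1600000
set_option linter.style.haveILetI false
set_option linter.unusedSectionVars false
set_option backward.isDefEq.respectTransparency false

universe u

open CategoryTheory CategoryTheory.Limits AlgebraicGeometry
open CategoryTheory.Abelian (Ext)
open GrothLib.LocFreeHom GrothLib.Cohom

noncomputable section

namespace GrothLib.CurveDual28

attribute [local instance] LocFreeHom.hasSheafHom

variable {X : Scheme.{u}}

local instance (M : X.Modules) : ModSite.HasSheafHom (O := X.sheaf) M :=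
  GrothLib.SheafCoh.hasSheafHom X.sheaf M

local instance (M : X.Modules) : (DCoh.sheafHom M).Additive := (DCoh.sheafHomAdj M).right_adjoint_additive

local instance (M : X.Modules) : PreservesFiniteLimits (DCoh.sheafHom M) :=
  haveI := (DCoh.sheafHomAdj M).rightAdjoint_preservesLimits
  inferInstance

local instance (M : X.Modules) : (ModSite.sheafHom (O := X.sheaf) M : X.Modules ⥤ X.Modules).Additive :=
  haveI := (DCoh.sheafHomAdj M).right_adjoint_additive
  Functor.additive_of_iso (LocFreeDual20.siteHomIso M).symm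

/-- The first local `Ext` into `ω`. -/
abbrev star [HasInjectiveResolutions X.Modules] (F ω : X.Modules) : X.Modules :=
  ((DCoh.sheafHom F).rightDerived 1).obj ω

/-- Coherent modules supported on `Z` without punctual submodules. -/
structure IsPureOn (Z : Set X) (F : X.Modules) : Prop where
  coh : Coh.IsCoh F
  supp : CohB1.support F ⊆ Z
  ker : ∀ (P : X.Modules) (f : P ⟶ F), FlatMod.IsFinLocFree P → FlatMod.IsFinLocFree (kernel f)

theorem IsPureOn.of_mono [IsLocallyNoetherian X] {Z : Set X} {F G : X.Modules} (h : IsPureOn Z F) (ι : G ⟶ F)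
    [Mono ι] (hG : Coh.IsCoh G) : IsPureOn Z G where
  coh := hG
  supp := (QCoh.support_subset_of_mono ι).trans h.supp
  ker P f hP := DCoh.isFinLocFree_of_iso (kernelCompMono f ι) (h.ker P (f ≫ ι) hP)

variable (k : Type u) [Field k] [X.Over (Spec (CommRingCat.of k))] [Smooth (X ↘ Spec (CommRingCat.of k))]

include k in
/-- The kernel of any map of bundles on a smooth surface is a bundle. -/
theorem isFinLocFree_kernel_hom [IsLocallyNoetherian X] (hdim : topologicalKrullDim X ≤ 2) {P Q : X.Modules}
    (f : P ⟶ Q) (hP : FlatMod.IsFinLocFree P) (hQ : FlatMod.IsFinLocFree Q) :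
    FlatMod.IsFinLocFree (kernel f) := by
  have hQc := Euler.isCoh_of_isFinLocFree hQ
  have hI : Coh.IsCoh (Abelian.image f) := QCoh.isCoh_kernel _ hQc (QCoh.isCoh_cokernel f (Euler.isCoh_of_isFinLocFree hP) hQc)
  have htf : TorSh.IsTorsionFree (Abelian.image f) := fun x => by
    haveI := HodgeIndex.regular_of_smooth (X := X) k x
    haveI := CMFree.isDomain_of_isRegularLocalRing (X.presheaf.stalk x)
    haveI := (Ref1.isFinLocFree_iff_free (HomSh.hasRel_of_isCoh hQc)).1 hQ x
    exact (QCoh.stalkLin_injective (Abelian.image.ι f) x).moduleIsTorsionFree _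
      (map_smul (QCoh.stalkLin (Abelian.image.ι f) x))
  have h := SurfRef9.isFinLocFree_kernel k (X ↘ Spec (CommRingCat.of k)) hdim hP hI htf
    (Abelian.factorThruImage f)
  exact DCoh.isFinLocFree_of_iso
    ((kernelCompMono (Abelian.factorThruImage f) (Abelian.image.ι f)).symm ≪≫
      kernelIsoOfEq (Abelian.image.fac f)) h

include k in
/-- The kernel of a map from a bundle to the cokernel of an injection of bundles is a bundle. -/
theorem isFinLocFree_kernel_to_coker [IsLocallyNoetherian X] (hdim : topologicalKrullDim X ≤ 2)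
    {Q₁ Q₀ G P : X.Modules} (d : Q₁ ⟶ Q₀) (π : Q₀ ⟶ G) (w : d ≫ π = 0)
    (hS : (ShortComplex.mk d π w).ShortExact) (h₁ : FlatMod.IsFinLocFree Q₁) (h₀ : FlatMod.IsFinLocFree Q₀)
    (f : P ⟶ G) (hP : FlatMod.IsFinLocFree P) : FlatMod.IsFinLocFree (kernel f) := by
  haveI : Mono d := hS.mono_f
  haveI : Epi π := hS.epi_g
  let g : P ⊞ Q₀ ⟶ G := biprod.desc f π
  let a : kernel g ⟶ P := kernel.ι g ≫ biprod.fst
  let b : kernel g ⟶ Q₀ := kernel.ι g ≫ biprod.snd
  let c : Q₁ ⟶ kernel g := kernel.lift g (d ≫ biprod.inr) (by simp [g, w])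
  have hab : a ≫ f + b ≫ π = 0 := by
    have h := kernel.condition g
    have h' : kernel.ι g ≫ (biprod.fst ≫ f + biprod.snd ≫ π) = 0 :=
      (congrArg (kernel.ι g ≫ ·) (biprod.desc_eq (f := f) (g := π)).symm).trans h
    rw [Preadditive.comp_add, ← Category.assoc, ← Category.assoc] at h'
    exact h'
  haveI : Mono c := by
    haveI : Mono (c ≫ kernel.ι g) := by rw [kernel.lift_ι]; infer_instance
    exact mono_of_mono c (kernel.ι g)
  have hwca : c ≫ a = 0 := by simp [a, c]
  haveI : Epi a := by
    have hsq : IsPullback a b f (-π) := IsPullback.of_isLimit' ⟨by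
      rw [Preadditive.comp_neg, eq_neg_iff_add_eq_zero]; exact hab⟩
      (PullbackCone.IsLimit.mk _
        (fun s => kernel.lift g (biprod.lift s.fst s.snd) (by
          have hc := s.condition
          rw [Preadditive.comp_neg, eq_neg_iff_add_eq_zero] at hc
          rw [biprod.lift_desc, hc]))
        (fun s => by simp [a]) (fun s => by simp [b])
        (fun s m h1 h2 => by
          rw [← cancel_mono (kernel.ι g)]
          apply biprod.hom_ext
          · simpa [a] using h1
          · simpa [b] using h2))
    haveI : Epi (-π) := inferInstance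
    exact Abelian.epi_fst_of_isLimit f (-π) hsq.isLimit
  have hS' : (ShortComplex.mk c a hwca).ShortExact := by
    refine { exact := ShortComplex.exact_of_f_is_kernel _ (KernelFork.IsLimit.ofι _ _
      (fun {W} m hm => hS.exact.lift (m ≫ b) (by
        show (m ≫ b) ≫ π = 0
        rw [Category.assoc, show b ≫ π = -(a ≫ f) from eq_neg_of_add_eq_zero_right hab, Preadditive.comp_neg,
          ← Category.assoc, hm, Limits.zero_comp, neg_zero]))
      (fun {W} m hm => ?_) (fun {W} m hm m' hm' => ?_)) }
    · rw [← cancel_mono (kernel.ι g)]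
      apply biprod.hom_ext
      · simp only [Category.assoc, c, kernel.lift_ι, biprod.inr_fst, Limits.comp_zero]
        exact hm.symm
      · simp only [Category.assoc, c, kernel.lift_ι, biprod.inr_snd, Category.comp_id]
        exact hS.exact.lift_f _ _
    · rw [← cancel_mono d]
      refine Eq.trans ?_ (hS.exact.lift_f (m ≫ b) _).symm
      rw [← hm', Category.assoc]
      simp [c, b]
  have hW : FlatMod.IsFinLocFree (kernel g) := K0Sub.isFinLocFree_ext _ hS' h₁ hP
  refine DCoh.isFinLocFree_of_iso ?_ (isFinLocFree_kernel_hom k hdim b hW h₀)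
  have hbz : kernel.ι b ≫ a ≫ f = 0 := by
    rw [show a ≫ f = -(b ≫ π) from eq_neg_of_add_eq_zero_left hab, Preadditive.comp_neg, kernel.condition_assoc,
      Limits.zero_comp, neg_zero]
  have hba : (kernel.lift g (kernel.ι f ≫ biprod.inl) (by simp [g]) : kernel f ⟶ kernel g) ≫ b = 0 := by simp [b]
  refine ⟨kernel.lift f (kernel.ι b ≫ a) (by rw [Category.assoc]; exact hbz),
    kernel.lift b (kernel.lift g (kernel.ι f ≫ biprod.inl) (by simp [g])) hba, ?_, ?_⟩
  · rw [← cancel_mono (kernel.ι b), ← cancel_mono (kernel.ι g)]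
    apply biprod.hom_ext
    · simp [a]
    · simp [b]
  · rw [← cancel_mono (kernel.ι f)]
    simp [a]

/-- The stalk of a positive local `Ext` into an invertible module vanishes at points where the module is free. -/
theorem subsingleton_stalk_extSh [IsNoetherian X] [HasInjectiveResolutions (ModSite.Mod X.sheaf)]
    {F W : X.Modules} (hF : Coh.IsCoh F) (hW : FlatMod.IsFinLocFreeOfRank 1 W) (x : X)
    (hfree : Module.Projective (X.presheaf.stalk x) (F.presheaf.stalk x)) (j : ℕ) :
    x ∉ CohB1.support ((ModSite.extSh (O := X.sheaf) F (j + 1)).obj W) := by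
  refine fun hx => hx ?_
  obtain ⟨a⟩ := Groth.Agent.S11323.result X F W hF x (j + 1)
  obtain ⟨w⟩ := DualTF27.nonempty_stalk_iso_of_rank_one hW x
  refine (Equiv.ofBijective _ (ExtTilde20.bijective_modTo x _)).symm.subsingleton_congr.2
    (a.toEquiv.subsingleton_congr.2 ?_)
  rw [SerrePn27.subsingleton_ext_iff_of_iso (ExtTilde20.stalkModIso x F)
    (ExtTilde20.stalkModIso x W ≪≫ (ModuleCat.restrictScalars (ExtTilde20.ringEquiv x).toRingHom).mapIso w) (j + 1)]
  have hb := Functor.mapExt_bijective_of_preservesInjectiveObjects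
    (ModuleCat.restrictScalars.{u} (ExtTilde20.ringEquiv x).toRingHom)
    ((OX.stalk x).obj F) (ModuleCat.of (X.presheaf.stalk x) (X.presheaf.stalk x)) (j + 1)
  refine (Equiv.ofBijective _ hb).subsingleton_congr.1 ?_
  haveI := hfree
  haveI : CategoryTheory.Projective ((OX.stalk x).obj F) := by
    show CategoryTheory.Projective (ModuleCat.of (X.presheaf.stalk x) (F.presheaf.stalk x))
    infer_instance
  exact subsingleton_of_forall_eq 0 fun e => Ext.eq_zero_of_projective e

end GrothLib.CurveDual28
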