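import Groth.Agent.Lib.CurveDual28.Basic

/-!
# Involution and duality for `Ext¹(-, ω)` on modules of dimension one on a surface
-/

set_option autoImplicit false
set_option maxHeartbeats 1600000
set_option linter.style.haveILetI false
set_option linter.unusedSectionVars false
set_option backward.isDefEq.respectTransparency false

universe u

open CategoryTheory CategoryTheory.Limits AlgebraicGeometry
open CategoryTheory.Abelian (Ext)
open GrothLib.LocFreeHom GrothLib.Cohom

noncomputable section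

namespace GrothLib.CurveDual28

attribute [local instance] LocFreeHom.hasSheafHom

variable {k : Type u} [Field k] {r : ℕ} {X : Scheme.{u}} [X.Over (Spec (CommRingCat.of k))]

local instance (M : X.Modules) : ModSite.HasSheafHom (O := X.sheaf) M :=
  GrothLib.SheafCoh.hasSheafHom X.sheaf M

local instance (M : X.Modules) : (DCoh.sheafHom M).Additive := (DCoh.sheafHomAdj M).right_adjoint_additive

local instance (M : X.Modules) : PreservesFiniteLimits (DCoh.sheafHom M) :=
  haveI := (DCoh.sheafHomAdj M).rightAdjoint_preservesLimits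
  inferInstance

local instance (M : X.Modules) : (ModSite.sheafHom (O := X.sheaf) M : X.Modules ⥤ X.Modules).Additive :=
  haveI := (DCoh.sheafHomAdj M).right_adjoint_additive
  Functor.additive_of_iso (LocFreeDual20.siteHomIso M).symm

/-- A smooth projective surface with canonical module `ω`. -/
structure IsSurf (k : Type u) [Field k] {r : ℕ} {X : Scheme.{u}} [X.Over (Spec (CommRingCat.of k))]
    (ιP : X ⟶ CohB1.ProjSpace r k) (ω : X.Modules) : Prop where
  closed : IsClosedImmersion ιP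
  comm : ιP ≫ CohB1.ProjSpace.toSpec r k = X ↘ Spec (CommRingCat.of k)
  smooth : SmoothOfRelativeDimension 2 (X ↘ Spec (CommRingCat.of k))
  dim : topologicalKrullDim X ≤ 2
  top : ExtPow.IsExtPow 2 (Omega.sheaf (X ↘ Spec (CommRingCat.of k))) ω

variable {ιP : X ⟶ CohB1.ProjSpace r k} {ω : X.Modules} (hX : IsSurf k ιP ω)
include hX

theorem IsSurf.proper : IsProper (X ↘ Spec (CommRingCat.of k)) := by
  haveI := hX.closed
  haveI := Chow.isProper_toSpec r k
  exact hX.comm ▸ inferInstance

theorem IsSurf.smooth' : Smooth (X ↘ Spec (CommRingCat.of k)) :=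
  haveI := hX.smooth
  SmoothOfRelativeDimension.smooth 2 _

theorem IsSurf.noeth : AlgebraicGeometry.IsNoetherian X :=
  haveI := hX.proper
  Euler.isNoetherian_of_proper (X := X) k

theorem IsSurf.omega_invertible : PicF.IsInvertible ω :=
  haveI := hX.closed
  haveI := hX.smooth
  DualSm27.isInvertible_top k r 2 X ιP hX.comm ω hX.top

theorem IsSurf.omega_bundle : FlatMod.IsFinLocFree ω := Euler.isFinLocFree_of_isInvertible hX.omega_invertible

theorem IsSurf.exists_resolution {Z : Set X} {F : X.Modules} (hF : IsPureOn Z F) :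
    ∃ (P₁ P₀ : X.Modules) (d : P₁ ⟶ P₀) (π : P₀ ⟶ F) (w : d ≫ π = 0),
      (ShortComplex.mk d π w).ShortExact ∧ FlatMod.IsFinLocFree P₁ ∧ FlatMod.IsFinLocFree P₀ := by
  haveI := hX.closed
  haveI := hX.proper
  have hA := HodgeIndex.isAmple_hyperplane ιP
  obtain ⟨K, hKi, hK⟩ := VA.exists_inverse hA.1
  obtain ⟨P₀, q, hP₀, hq⟩ := LefAmp7.exists_epi_bundle k hA (M := K)
    ((Cube.clsMod_eq_one_iff (Ample.isInvertible_tensorMod hA.1 hKi)).1 (by
      rw [Cube.clsMod_tensorMod hA.1 hKi, hK, mul_inv_cancel])) (E := F) hF.coh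
  haveI := hq
  exact ⟨kernel q, P₀, kernel.ι q, q, kernel.condition q,
    ShortComplex.ShortExact.mk' (ShortComplex.exact_of_f_is_kernel _ (kernelIsKernel q)) inferInstance inferInstance,
    hF.ker P₀ q hP₀, hP₀⟩

theorem IsSurf.ptDim_le {Z : Set X} (hZ : IsClosed Z) (hd : topologicalKrullDim Z ≤ 1) {x : X} (hx : x ∈ Z) :
    AffDom.ptDim x ≤ 1 :=
  le_trans (Topology.IsEmbedding.inclusion (closure_minimal (Set.singleton_subset_iff.2 hx) hZ)).isInducing.topologicalKrullDim_le hd

theorem IsSurf.isZero_iHom {Z : Set X} (hZ : IsClosed Z) (hd : topologicalKrullDim Z ≤ 1) {F : X.Modules}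
    (hF : IsPureOn Z F) [HasInjectiveResolutions X.Modules] : IsZero (iHom F ω) := by
  haveI := hX.closed
  haveI := hX.smooth
  haveI := hX.smooth'
  haveI := hX.noeth
  haveI : HasInjectiveResolutions (ModSite.Mod X.sheaf) := ‹HasInjectiveResolutions X.Modules›
  have hz : IsZero ((ModSite.extSh (O := X.sheaf) F 0).obj ω) := by
    refine DepthExt20.isZero_extSh_of_le_depth hF.coh (Euler.isCoh_of_isFinLocFree hX.omega_bundle) (n := 1)
      (fun x hx => ?_) Nat.zero_lt_one
    refine CodimExt27.le_depth_stalk_of_finLocFree (n := 2) (X ↘ Spec (CommRingCat.of k))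
      (fun Z hZ => DualSm27.component_dim k r 2 X ιP hX.comm Z hZ)
      (DualSm27.regular_stalk k r 2 X ιP hX.comm) hX.omega_bundle x ?_
    exact (add_le_add (hX.ptDim_le hZ hd (hF.supp hx)) le_rfl).trans_eq (by norm_num)
  exact hz.of_iso (asIso ((DCoh.sheafHom F).toRightDerivedZero.app ω) ≪≫
    (SheafCoh.rightDerivedCongr (LocFreeDual20.siteHomIso F).symm 0).app ω)

/-- The dual resolution. -/
theorem IsSurf.exists_star_resolution {Z : Set X} (hZ : IsClosed Z) (hd : topologicalKrullDim Z ≤ 1)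
    {F : X.Modules} (hF : IsPureOn Z F) [HasInjectiveResolutions X.Modules] {P₁ P₀ : X.Modules} (d : P₁ ⟶ P₀)
    (π : P₀ ⟶ F) (w : d ≫ π = 0) (hS : (ShortComplex.mk d π w).ShortExact) (h₁ : FlatMod.IsFinLocFree P₁)
    (h₀ : FlatMod.IsFinLocFree P₀) :
    ∃ (π' : iHom P₁ ω ⟶ star F ω) (w' : hMap d ω ≫ π' = 0), (ShortComplex.mk (hMap d ω) π' w').ShortExact := by
  obtain ⟨e⟩ := ExtOne28.nonempty_extOne_iso d π w hS h₁ h₀ ω
  haveI : Mono (hMap d ω) := ExtOne28.mono_hMap d π w hS ω (hX.isZero_iHom hZ hd hF)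
  refine ⟨cokernel.π (hMap d ω) ≫ e.inv, by simp, ?_⟩
  exact ShortComplex.shortExact_of_iso
    (ShortComplex.isoMk (Iso.refl _) (Iso.refl _) e.symm (by simp) (by simp))
    (S₁ := ShortComplex.mk (hMap d ω) (cokernel.π (hMap d ω)) (cokernel.condition _))
    (ShortComplex.ShortExact.mk' (ShortComplex.exact_cokernel _) inferInstance inferInstance)

theorem IsSurf.isPureOn_star {Z : Set X} (hZ : IsClosed Z) (hd : topologicalKrullDim Z ≤ 1) {F : X.Modules}
    (hF : IsPureOn Z F) [HasInjectiveResolutions X.Modules] : IsPureOn Z (star F ω) := by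
  haveI := hX.smooth'
  haveI := hX.noeth
  obtain ⟨P₁, P₀, d, π, w, hS, h₁, h₀⟩ := hX.exists_resolution hF
  obtain ⟨π', w', hS'⟩ := hX.exists_star_resolution hZ hd hF d π w hS h₁ h₀
  have h₁' := LocFreeHom.isFinLocFree_iHom h₁ hX.omega_bundle
  have h₀' := LocFreeHom.isFinLocFree_iHom h₀ hX.omega_bundle
  refine ⟨?_, fun x hx => ?_, fun P f hP =>
    isFinLocFree_kernel_to_coker k hX.dim (hMap d ω) π' w' hS' h₀' h₁' f hP⟩
  · obtain ⟨e⟩ := ExtOne28.nonempty_extOne_iso d π w hS h₁ h₀ ω
    exact QCoh.isCoh_of_iso e.symm (QCoh.isCoh_cokernel _ (Euler.isCoh_of_isFinLocFree h₀')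
      (Euler.isCoh_of_isFinLocFree h₁'))
  · by_contra hxZ
    haveI := QCoh.stalk_subsingleton_of_notMem (fun h => hxZ (hF.supp h))
    haveI : HasInjectiveResolutions (ModSite.Mod X.sheaf) := ‹HasInjectiveResolutions X.Modules›
    refine subsingleton_stalk_extSh (F := F) hF.coh (Euler.isFinLocFreeOfRank_one' hX.omega_invertible) x
      inferInstance 0 ?_
    rwa [← QCoh.support_eq_of_iso ((SheafCoh.rightDerivedCongr (LocFreeDual20.siteHomIso F).symm 1).app ω)]

/-- The involution. -/
theorem IsSurf.nonempty_star_star {Z : Set X} (hZ : IsClosed Z) (hd : topologicalKrullDim Z ≤ 1) {F : X.Modules}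
    (hF : IsPureOn Z F) [HasInjectiveResolutions X.Modules] : Nonempty (star (star F ω) ω ≅ F) := by
  obtain ⟨P₁, P₀, d, π, w, hS, h₁, h₀⟩ := hX.exists_resolution hF
  obtain ⟨π', w', hS'⟩ := hX.exists_star_resolution hZ hd hF d π w hS h₁ h₀
  obtain ⟨e'⟩ := ExtOne28.nonempty_extOne_iso (hMap d ω) π' w' hS'
    (LocFreeHom.isFinLocFree_iHom h₀ hX.omega_bundle) (LocFreeHom.isFinLocFree_iHom h₁ hX.omega_bundle) ω
  haveI := ExtOne28.isIso_biMap hX.omega_invertible h₁
  haveI := ExtOne28.isIso_biMap hX.omega_invertible h₀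
  let c : cokernel d ≅ cokernel (hMap (hMap d ω) ω) :=
    cokernel.mapIso _ _ (asIso (ExtOne28.biMap P₁ ω)) (asIso (ExtOne28.biMap P₀ ω))
      (ExtOne28.biMap_natural d ω).symm
  exact ⟨e' ≪≫ c.symm ≪≫ (cokernelIsCokernel d).coconePointUniqueUpToIso hS.gIsCokernel⟩

/-- Duality: sections of the dual. -/
theorem IsSurf.finrank_star_zero [Nonempty X] {Z : Set X} (hZ : IsClosed Z) (hd : topologicalKrullDim Z ≤ 1)
    {F : X.Modules} (hF : IsPureOn Z F) [HasInjectiveResolutions X.Modules] :
    Module.finrank k (Coh.HH X (star F ω) 0) = Module.finrank k (Coh.HH X F 1) := by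
  haveI := hX.closed
  haveI := hX.smooth
  haveI := hX.proper
  haveI : EnoughInjectives X.Modules := SheafCoh.enoughInjectives_sheafOfModules X.ringCatSheaf
  haveI : HasExt.{u} X.Modules := hasExt_of_enoughInjectives _
  obtain ⟨e⟩ := DualSm27.nonempty_ext_dual k r 2 X ιP hX.comm ω hX.top F hF.coh 1 (by omega)
  obtain ⟨e'⟩ := ExtOne28.nonempty_ext_one (k := k) F ω fun p =>
    SerrePn27.subsingleton_HH_of_isZero (k := k) (hX.isZero_iHom hZ hd hF) _
  rw [← e'.finrank_eq, e.finrank_eq, Subspace.dual_finrank_eq]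

/-- Duality: first cohomology of the dual. -/
theorem IsSurf.finrank_star_one [Nonempty X] {Z : Set X} (hZ : IsClosed Z) (hd : topologicalKrullDim Z ≤ 1)
    {F : X.Modules} (hF : IsPureOn Z F) [HasInjectiveResolutions X.Modules] :
    Module.finrank k (Coh.HH X (star F ω) 1) = Module.finrank k (Coh.HH X F 0) := by
  obtain ⟨e⟩ := hX.nonempty_star_star hZ hd hF
  rw [← hX.finrank_star_zero hZ hd (hX.isPureOn_star hZ hd hF)]
  exact (SerrePn27.hhMapEquiv (k := k) e 0).finrank_eq

end GrothLib.CurveDual28
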