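import Groth.Agent.Lib.CurveDual28.Dual

/-!
# Global generation of the dual
-/

set_option autoImplicit false
set_option maxHeartbeats 1600000
set_option linter.style.haveILetI false
set_option linter.unusedSectionVars false
set_option backward.isDefEq.respectTransparency false

universe u

open CategoryTheory CategoryTheory.Limits AlgebraicGeometry
open GrothLib.LocFreeHom GrothLib.Cohom
open GrothLib.QCoh (stalkLin)

noncomputable section

namespace GrothLib.CurveDual28

attribute [local instance] LocFreeHom.hasSheafHom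

variable {k : Type u} [Field k] {r : ℕ} {X : Scheme.{u}} [X.Over (Spec (CommRingCat.of k))]

local instance (M : X.Modules) : ModSite.HasSheafHom (O := X.sheaf) M :=
  GrothLib.SheafCoh.hasSheafHom X.sheaf M

local instance (M : X.Modules) : (DCoh.sheafHom M).Additive := (DCoh.sheafHomAdj M).right_adjoint_additive

local instance (M : X.Modules) : PreservesFiniteLimits (DCoh.sheafHom M) :=
  haveI := (DCoh.sheafHomAdj M).rightAdjoint_preservesLimits
  inferInstance

local instance (M : X.Modules) : (ModSite.sheafHom (O := X.sheaf) M : X.Modules ⥤ X.Modules).Additive :=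
  haveI := (DCoh.sheafHomAdj M).right_adjoint_additive
  Functor.additive_of_iso (LocFreeDual20.siteHomIso M).symm

/-- Global generation of an extension whose sections surject onto those of the quotient. -/
theorem isGloballyGenerated_of_surjective {I E Q : X.Modules} (i : I ⟶ E) (p : E ⟶ Q) (w : i ≫ p = 0)
    (hS : (ShortComplex.mk i p w).ShortExact) (hI : Curv2.IsGloballyGenerated I)
    (hQ : Curv2.IsGloballyGenerated Q) (hsurj : Function.Surjective (hhMap k p 0)) :
    Curv2.IsGloballyGenerated E := by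
  have hs : Function.Surjective (p.app ⊤) := fun t => by
    obtain ⟨y, hy⟩ := hsurj ((ProjCoh.H0top _).symm t)
    refine ⟨ProjCoh.H0top _ y, ?_⟩
    have h1 := congrArg (ProjCoh.H0top _) hy
    rw [AddEquiv.apply_symm_apply] at h1
    exact (ProjCoh.H0top_map ((QCoh.toAbFun _).map p) y).symm.trans h1
  refine UnifVanish7.StalkSpanned.isGloballyGenerated fun x => eq_top_iff.2 fun v _ => ?_
  have hle : Submodule.map (stalkLin p x) (UnifVanish7.spanGlobal E x) = ⊤ := by
    rw [eq_top_iff, ← CurveMult.stalkSpanned_of_isGloballyGenerated hQ x, Submodule.span_le]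
    rintro _ ⟨t, rfl⟩
    obtain ⟨s, rfl⟩ := hs t
    exact ⟨_, Submodule.subset_span ⟨s, rfl⟩, QCoh.stalkLin_germ p (U := ⊤) trivial s⟩
  obtain ⟨u, hu, hu'⟩ := (hle.symm ▸ Submodule.mem_top : stalkLin p x v ∈ _)
  have hex : Function.Exact (stalkLin i x) (stalkLin p x) :=
    (ShortComplex.ShortExact.moduleCat_exact_iff_function_exact _).1 ((OX.exact_iff _).1 hS.exact x)
  obtain ⟨a, ha⟩ := (hex (v - u)).1 (by rw [map_sub, hu', sub_self])
  have hb := UnifVanish7.map_spanGlobal_le i x
    ⟨a, CurveMult.stalkSpanned_of_isGloballyGenerated hI x ▸ Submodule.mem_top, rfl⟩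
  rw [show v = (v - u) + u by abel, ← ha]
  exact Submodule.add_mem _ hb hu

variable {ιP : X ⟶ CohB1.ProjSpace r k} {ω : X.Modules} (hX : IsSurf k ιP ω)
include hX

/-- A submodule gives a map of duals which is onto in codimension one. -/
theorem IsSurf.exists_star_map {Z : Set X} (hZ : IsClosed Z) (hd : topologicalKrullDim Z ≤ 1) {F G : X.Modules}
    (hF : IsPureOn Z F) (hG : Coh.IsCoh G) (ι : G ⟶ F) [Mono ι] [HasInjectiveResolutions X.Modules] :
    ∃ φ : star F ω ⟶ star G ω, ∀ x ∈ CohB1.support (cokernel φ), AffDom.ptDim x ≤ 0 := by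
  haveI := hX.closed
  haveI := hX.smooth
  haveI := hX.smooth'
  haveI := hX.noeth
  haveI : HasInjectiveResolutions (ModSite.Mod X.sheaf) := ‹HasInjectiveResolutions X.Modules›
  have hG' := hF.of_mono ι hG
  obtain ⟨R₁, R₀, dR, q, wR, hR, hR₁, hR₀⟩ := hX.exists_resolution hF
  obtain ⟨S₁, S₀, dS, s, wS, hS, hS₁, hS₀⟩ := hX.exists_resolution hG'
  haveI : Epi q := hR.epi_g
  haveI : Epi s := hS.epi_g
  haveI : Mono dS := hS.mono_f
  let q' : R₀ ⊞ S₀ ⟶ F := biprod.desc q (s ≫ ι)
  haveI : Epi q' := by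
    haveI : Epi (biprod.inl ≫ q') := by rw [biprod.inl_desc]; infer_instance
    exact epi_of_epi biprod.inl q'
  have hP₀ : FlatMod.IsFinLocFree (R₀ ⊞ S₀) := DCoh.isFinLocFree_biprod hR₀ hS₀
  have hK : FlatMod.IsFinLocFree (kernel q') := hF.ker _ q' hP₀
  have hT : (ShortComplex.mk (kernel.ι q') q' (kernel.condition q')).ShortExact :=
    ShortComplex.ShortExact.mk' (ShortComplex.exact_of_f_is_kernel _ (kernelIsKernel q')) inferInstance inferInstance
  let u : S₁ ⟶ kernel q' := kernel.lift q' (dS ≫ biprod.inr) (by simp [q', reassoc_of% wS])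
  haveI : Mono u := by
    haveI : Mono (u ≫ kernel.ι q') := by rw [kernel.lift_ι]; infer_instance
    exact mono_of_mono u (kernel.ι q')
  let m : kernel q' ⟶ R₀ := kernel.ι q' ≫ biprod.fst
  have hum : u ≫ m = 0 := by simp [u, m]
  have hex : (ShortComplex.mk u m hum).Exact := by
    refine ShortComplex.exact_of_f_is_kernel _ (KernelFork.IsLimit.ofι _ _
      (fun {W} g hg => hS.exact.lift (g ≫ kernel.ι q' ≫ biprod.snd) ?_) (fun {W} g hg => ?_)
      (fun {W} g hg g' hg' => ?_))
    · show (g ≫ kernel.ι q' ≫ biprod.snd) ≫ s = 0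
      rw [← cancel_mono ι, Limits.zero_comp]
      have h1 : g ≫ kernel.ι q' ≫ q' = 0 := by rw [kernel.condition, Limits.comp_zero]
      have h2 : q' = biprod.fst ≫ q + biprod.snd ≫ s ≫ ι := biprod.desc_eq
      replace h1 : g ≫ kernel.ι q' ≫ (biprod.fst ≫ q + biprod.snd ≫ s ≫ ι) = 0 :=
        (congrArg (fun t => g ≫ kernel.ι q' ≫ t) h2.symm).trans h1
      rw [Preadditive.comp_add, Preadditive.comp_add] at h1
      have h3 : g ≫ kernel.ι q' ≫ biprod.fst ≫ q = 0 := by
        have h4 := congrArg (· ≫ q) (show g ≫ kernel.ι q' ≫ biprod.fst = 0 from hg)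
        simpa using h4
      rw [h3, zero_add] at h1
      simpa using h1
    · rw [← cancel_mono (kernel.ι q')]
      apply biprod.hom_ext
      · simp only [Category.assoc, u, kernel.lift_ι, biprod.inr_fst, Limits.comp_zero]
        exact hg.symm
      · simp only [Category.assoc, u, kernel.lift_ι, biprod.inr_snd, Category.comp_id]
        exact hS.exact.lift_f _ _
    · rw [← cancel_mono dS]
      refine Eq.trans ?_ (hS.exact.lift_f _ _).symm
      rw [← hg']
      simp [u]
  haveI hmono := (ShortComplex.exact_iff_mono_cokernel_desc _).1 hex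
  let N := cokernel u
  let ψ : N ⟶ R₀ := cokernel.desc u m hum
  haveI : Mono ψ := hmono
  have hKc := Euler.isCoh_of_isFinLocFree hK
  have hR₀c := Euler.isCoh_of_isFinLocFree hR₀
  have hNc : Coh.IsCoh N := QCoh.isCoh_cokernel u (Euler.isCoh_of_isFinLocFree hS₁) hKc
  have hN : (ShortComplex.mk u (cokernel.π u) (cokernel.condition u)).ShortExact :=
    ShortComplex.ShortExact.mk' (ShortComplex.exact_cokernel u) inferInstance inferInstance
  obtain ⟨eN⟩ := ExtOne28.nonempty_extOne_iso u (cokernel.π u) (cokernel.condition u) hN hS₁ hK ω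
  obtain ⟨eF⟩ := ExtOne28.nonempty_extOne_iso (kernel.ι q') q' (kernel.condition q') hT hK hP₀ ω
  obtain ⟨eG⟩ := ExtOne28.nonempty_extOne_iso dS s wS hS hS₁ hS₀ ω
  have hcomm : hMap (kernel.ι q') ω ≫ hMap u ω = hMap biprod.inr ω ≫ hMap dS ω := by
    rw [← hMap_comp, ← hMap_comp, kernel.lift_ι]
  let φ₀ : cokernel (hMap (kernel.ι q') ω) ⟶ cokernel (hMap dS ω) :=
    cokernel.map _ _ (hMap biprod.inr ω) (hMap u ω) hcomm
  refine ⟨eF.hom ≫ φ₀ ≫ eG.inv, fun x hx => ?_⟩
  let c : cokernel (hMap u ω) ⟶ cokernel (eF.hom ≫ φ₀ ≫ eG.inv) :=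
    cokernel.desc _ (cokernel.π (hMap dS ω) ≫ eG.inv ≫ cokernel.π (eF.hom ≫ φ₀ ≫ eG.inv)) (by
      have h1 := cokernel.condition (eF.hom ≫ φ₀ ≫ eG.inv)
      simp only [Category.assoc] at h1
      replace h1 := (cancel_epi eF.hom).1 (h1.trans Limits.comp_zero.symm)
      have h2 : hMap u ω ≫ cokernel.π (hMap dS ω) = cokernel.π (hMap (kernel.ι q') ω) ≫ φ₀ := by simp [φ₀]
      rw [reassoc_of% h2, h1, Limits.comp_zero])
  haveI : Epi c := by
    haveI : Epi (cokernel.π (hMap u ω) ≫ c) := by
      rw [cokernel.π_desc]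
      infer_instance
    exact epi_of_epi (cokernel.π (hMap u ω)) c
  have hx' : x ∈ CohB1.support ((ModSite.extSh (O := X.sheaf) N 1).obj ω) := by
    rw [← QCoh.support_eq_of_iso ((SheafCoh.rightDerivedCongr (LocFreeDual20.siteHomIso N).symm 1).app ω),
      QCoh.support_eq_of_iso eN]
    exact QCoh.support_subset_of_epi c hx
  by_contra hp
  refine subsingleton_stalk_extSh (F := N) hNc (Euler.isFinLocFreeOfRank_one' hX.omega_invertible) x ?_ 0 hx'
  haveI := DualSm27.regular_stalk k r 2 X ιP hX.comm x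
  have hdx : ringKrullDim (X.presheaf.stalk x) ≤ 1 := by
    have hsum := CodimExt27.ptDim_add_dim_stalk (n := 2) (X ↘ Spec (CommRingCat.of k))
      (fun Z hZ => DualSm27.component_dim k r 2 X ιP hX.comm Z hZ) x
    obtain ⟨a, ha, -⟩ := AffDom.exists_dim_closure (X ↘ Spec (CommRingCat.of k)) x
    have ha' : AffDom.ptDim x = ((a : ℕ) : WithBot ℕ∞) := ha
    obtain ⟨e, he⟩ := ENat.ne_top_iff_exists.1
      (Ideal.height_ne_top (I := IsLocalRing.maximalIdeal (X.presheaf.stalk x)) Ideal.IsPrime.ne_top')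
    have hd : ringKrullDim (X.presheaf.stalk x) = ((e : ℕ) : WithBot ℕ∞) := by
      rw [← IsLocalRing.maximalIdeal_height_eq_ringKrullDim, ← he]; rfl
    rw [ha', hd] at hsum
    rw [ha'] at hp
    rw [hd]
    have h1 : a + e = 2 := by exact_mod_cast hsum
    have h2 : 0 < a := by
      by_contra h0
      push Not at h0
      obtain rfl : a = 0 := by omega
      exact hp le_rfl
    exact_mod_cast (show e ≤ 1 by omega)
  haveI := (Ref1.isFinLocFree_iff_free (HomSh.hasRel_of_isCoh hR₀c)).1 hR₀ x
  haveI := CMFree.isDomain_of_isRegularLocalRing (X.presheaf.stalk x)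
  haveI : Module.IsTorsionFree (X.presheaf.stalk x) (N.presheaf.stalk x) :=
    (QCoh.stalkLin_injective ψ x).moduleIsTorsionFree _ (map_smul (QCoh.stalkLin ψ x))
  haveI := QuasiFlat.finite_stalk N hNc x
  haveI := Ref1.free_of_isTorsionFree_dim_one hdx (N.presheaf.stalk x)
  infer_instance

/-- The dual of a submodule of the dual of a globally generated module with the same sections is globally generated. -/
theorem IsSurf.isGloballyGenerated_star [Nonempty X] {Z : Set X} (hZ : IsClosed Z) (hd : topologicalKrullDim Z ≤ 1)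
    [HasInjectiveResolutions X.Modules] {A B : X.Modules} (hA : IsPureOn Z A) (hAg : Curv2.IsGloballyGenerated A)
    (ι : B ⟶ star A ω) [Mono ι] (hB : Coh.IsCoh B) (hsurj : Function.Surjective (hhMap k ι 0)) :
    Curv2.IsGloballyGenerated (star B ω) := by
  haveI := hX.closed
  haveI := hX.smooth
  haveI := hX.proper
  haveI := hX.noeth
  have hAs := hX.isPureOn_star hZ hd hA
  have hB' := hAs.of_mono ι hB
  have hBs := hX.isPureOn_star hZ hd hB'
  obtain ⟨e⟩ := hX.nonempty_star_star hZ hd hA
  obtain ⟨φ₀, hφ₀⟩ := hX.exists_star_map hZ hd hAs hB ι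
  let φ : A ⟶ star B ω := e.inv ≫ φ₀
  let Q := cokernel φ
  have hQ : ∀ x ∈ CohB1.support Q, AffDom.ptDim x ≤ 0 := fun x hx => hφ₀ x (by
    rwa [← QCoh.support_eq_of_iso (cokernelEpiComp e.inv φ₀)])
  have hQc : Coh.IsCoh Q := QCoh.isCoh_cokernel φ hA.coh hBs.coh
  have hcl : ∀ x ∈ CohB1.support Q, IsClosed ({x} : Set X) := fun x hx =>
    Euler.isClosed_singleton_of_dim_le_zero isClosed_closure (hQ x hx) (subset_closure rfl)
  have hfin := CurveMult.finite_support_of_closed_points hQc hcl
  let p : A ⟶ Abelian.image φ := Abelian.factorThruImage φ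
  let i : Abelian.image φ ⟶ star B ω := Abelian.image.ι φ
  have hS : (ShortComplex.mk i (cokernel.π φ) (kernel.condition _)).ShortExact :=
    ShortComplex.ShortExact.mk' (ShortComplex.exact_of_f_is_kernel _ (kernelIsKernel _)) inferInstance inferInstance
  have hK : (ShortComplex.mk (kernel.ι p) p (kernel.condition p)).ShortExact :=
    ShortComplex.ShortExact.mk' (ShortComplex.exact_of_f_is_kernel _ (kernelIsKernel p)) inferInstance inferInstance
  have hIc : Coh.IsCoh (Abelian.image φ) := QCoh.isCoh_kernel _ hBs.coh hQc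
  refine isGloballyGenerated_of_surjective (k := k) i (cokernel.π φ) _ hS
    (CurveMult.isGloballyGenerated_of_epi p hAg)
    (CurveMult.isGloballyGenerated_of_finite_support hfin hcl) ?_
  have hKs : CohB1.support (kernel p) ⊆ Z := (QCoh.support_subset_of_mono (kernel.ι p)).trans hA.supp
  have hK2 : Subsingleton (Coh.HH X (kernel p) 2) :=
    CMReg.subsingleton_HH_of_support_dim_le_one k (QCoh.isCoh_kernel p hA.coh hIc)
      (le_trans (Topology.IsEmbedding.inclusion hKs).isInducing.topologicalKrullDim_le hd) 2 le_rfl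
  have hQ1 : Subsingleton (Coh.HH X Q 1) := Euler.subsingleton_HH_of_finite_support Q hfin hcl 1 le_rfl
  have hp : Function.Surjective (hhMap k p 1) := fun y =>
    (exact₃ (A := k) hK 1 y).1 (@Subsingleton.elim _ hK2 _ _)
  have hi : Function.Surjective (hhMap k i 1) := fun y =>
    (exact₂ (A := k) hS 1 y).1 (@Subsingleton.elim _ hQ1 _ _)
  haveI := Euler.finiteDimensional_HH k hA.coh 1
  haveI := Euler.finiteDimensional_HH k hBs.coh 1
  have heq : Module.finrank k (Coh.HH X A 1) = Module.finrank k (Coh.HH X (star B ω) 1) := by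
    rw [hX.finrank_star_one hZ hd hB', ← hX.finrank_star_zero hZ hd hA]
    exact (LinearEquiv.ofBijective (hhMap k ι 0) ⟨NegTwist.injective_hhMap_zero k ι, hsurj⟩).finrank_eq.symm
  let f : Coh.HH X A 1 →ₗ[k] Coh.HH X (star B ω) 1 := (hhMap k i 1).comp (hhMap k p 1)
  have hf : Function.Surjective f := hi.comp hp
  have hfi : Function.Injective f := (LinearMap.injective_iff_surjective_of_finrank_eq_finrank heq).2 hf
  have hii : Function.Injective (hhMap k i 1) := fun a b hab => by
    obtain ⟨a, rfl⟩ := hp a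
    obtain ⟨b, rfl⟩ := hp b
    rw [hfi hab]
  intro y
  refine (exact₃ (A := k) hS 0 y).1 (hii ?_)
  rw [map_zero]
  exact (exact₁ (A := k) hS 0).apply_apply_eq_zero y

end GrothLib.CurveDual28
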